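import Mathlib
import Cfsg.Agent.Lib.CIT.AppFrob
import Cfsg.Agent.Lib.AbCent.Main
import Cfsg.Agent.Lib.Dickson.Max
import Cfsg.Agent.Lib.Tech.SylowIn
import Cfsg.Agent.Lib.FT3.Four
import Cfsg.Agent.Lib.Invol.SylowElem

/-!
Simple groups in which every non-abelian subgroup is self-normalizing.
-/

set_option autoImplicit false
set_option linter.unusedSectionVars false
set_option linter.style.haveILetI false

namespace CfsgLib.CIT.App

open Cfsg Subgroup
open scoped commutatorElement IsMulCommutative MatrixGroups Pointwise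

universe u

variable {G : Type*} [Group G] [Finite G]

/-- Every non-abelian subgroup is self-normalizing. -/
def SN (G : Type*) [Group G] : Prop :=
  ∀ H : Subgroup G, ¬ IsMulCommutative H → normalizer (H : Set G) = H

theorem comm_iff {H : Subgroup G} : IsMulCommutative H ↔ ∀ a ∈ H, ∀ b ∈ H, a * b = b * a :=
  ⟨fun _ _ ha _ hb => setLike_mul_comm ha hb, fun h => ⟨⟨fun a b => Subtype.ext (h _ a.2 _ b.2)⟩⟩⟩

theorem SN.of_injective (h : SN G) {K : Type*} [Group K] (f : K →* G) (hf : Function.Injective f) : SN K :=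
  fun H hH => le_antisymm (fun k hk => by
    obtain ⟨x, hx, e⟩ := (h (H.map f) fun hc => hH ⟨⟨fun a b => Subtype.ext (hf (by
      simpa using setLike_mul_comm (mem_map_of_mem f a.2) (mem_map_of_mem f b.2)))⟩⟩).le
      (le_normalizer_map f (mem_map_of_mem f hk))
    exact hf e ▸ hx) le_normalizer

theorem SN.comm (h : SN G) {K : Subgroup G} [K.Normal] (hK : K ≠ ⊤) : IsMulCommutative K :=
  by_contra fun hc => hK ((h K hc).symm.trans (normalizer_eq_top K))

theorem SN.eq_of_le (h : SN G) {p : ℕ} [Fact p.Prime] {H S : Subgroup G} (hS : IsPGroup p S) (hle : H ≤ S)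
    (hH : ¬ IsMulCommutative H) : H = S :=
  by_contra fun hn => (Core.lt_inf_normalizer_of_isPGroup hS (hle.lt_of_ne hn)).not_ge (inf_le_right.trans (h H hH).le)

theorem SN.mem_center (h : SN G) (S : Sylow 2 G) {A : Subgroup G} [A.Normal] {s z : G} (hs : s ∈ (S : Subgroup G))
    (hsA : s ∉ A) (hS : (S : Subgroup G) ≤ A ⊔ zpowers s) (hz : z ∈ A) (hzS : (S : Subgroup G) ≤ centralizer {z}) :
    z ∈ center G := by
  haveI : Fact (Nat.Prime 2) := ⟨Nat.prime_two⟩
  obtain ⟨N, hN, hc⟩ := Invol.exists_normal_complement_of_isCyclic (S.mapSurjective (QuotientGroup.mk'_surjective A))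
    (isCyclic_of_le (H' := zpowers (s : G ⧸ A)) (by
      rw [Sylow.coe_mapSurjective]
      refine (map_mono hS).trans ?_
      rw [Subgroup.map_sup, MonoidHom.map_zpowers, (Subgroup.map_eq_bot_iff A).2 (QuotientGroup.ker_mk' A).ge, bot_sup_eq]
      rfl))
  haveI := h.comm (K := N.comap (QuotientGroup.mk' A)) fun e => hsA ((QuotientGroup.eq_one_iff s).1
    (disjoint_def.1 hc.disjoint (e.ge (mem_top s)) (mem_map_of_mem _ hs)))
  refine mem_center_iff.2 fun g => ?_
  obtain ⟨⟨⟨n, hn⟩, _, t, ht, rfl⟩, e⟩ := hc.2 (g : G ⧸ A)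
  have h1 : g * t⁻¹ ∈ N.comap (QuotientGroup.mk' A) := by
    rw [mem_comap, map_mul, map_inv, QuotientGroup.mk'_apply, ← e, mul_inv_cancel_right]
    exact hn
  have h2 : z ∈ N.comap (QuotientGroup.mk' A) := by
    rw [mem_comap, QuotientGroup.mk'_apply, (QuotientGroup.eq_one_iff z).2 hz]
    exact one_mem _
  rw [← inv_mul_cancel_right g t, mul_assoc, mem_centralizer_singleton_iff.1 (hzS ht), ← mul_assoc,
    setLike_mul_comm h1 h2, mul_assoc]

theorem SN.comm_sylow (h : SN G) [IsSimpleGroup G] (hG : ¬ IsMulCommutative G) (h2 : 2 ∣ Nat.card G) (S : Sylow 2 G) :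
    IsMulCommutative (S : Subgroup G) := by
  haveI : Fact (Nat.Prime 2) := ⟨Nat.prime_two⟩
  by_contra hS
  obtain ⟨z, hz, hz2, hSz⟩ := exists_center_sylow S h2
  have fus : ∀ g : G, (S : Subgroup G) ≤ centralizer {g * z * g⁻¹} → g * z * g⁻¹ = z := fun g hg => by
    obtain ⟨n, hn, e⟩ := S.conj_eq_normalizer_conj_of_mem_centralizer z g⁻¹
      (fun s hs => mem_centralizer_singleton_iff.1 (hSz hs))
      (fun s hs => by rw [inv_inv]; exact mem_centralizer_singleton_iff.1 (hg hs))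
    rw [inv_inv] at e
    rw [e, mul_assoc, ← mem_centralizer_singleton_iff.1 (hSz ((h _ hS).le hn)), inv_mul_cancel_left]
  obtain ⟨g, hg, hgz⟩ : ∃ g : G, g * z * g⁻¹ ∈ (S : Subgroup G) ∧ g * z * g⁻¹ ≠ z := by
    by_contra hc
    push Not at hc
    exact ZStar.not_isolated_of_simple hG z (ZStar.isIsolatedInvolution_of_sylow S hz2 hz hc)
  have hA : (S : Subgroup G) ⊓ centralizer {g * z * g⁻¹} < S := inf_lt_left.2 fun e => hgz (fus g e)
  have hy : g * z * g⁻¹ ∈ (S : Subgroup G) ⊓ centralizer {g * z * g⁻¹} := ⟨hg, mem_centralizer_singleton_iff.2 rfl⟩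
  have hzA : z ∈ (S : Subgroup G) ⊓ centralizer {g * z * g⁻¹} :=
    ⟨hz, mem_centralizer_singleton_iff.2 (mem_centralizer_singleton_iff.1 (hSz hg)).symm⟩
  have key : ∀ B : Subgroup G, (S : Subgroup G) ⊓ centralizer {g * z * g⁻¹} < B → B ≤ S → B = S := fun B h1 h2 =>
    h.eq_of_le S.isPGroup' h2 fun hc => h1.not_ge (le_inf h2 fun b hb =>
      mem_centralizer_singleton_iff.2 (setLike_mul_comm hb (h1.le hy)))
  obtain ⟨R, hR, hAR, hRC, hRN⟩ := Tech.exists_lt_pgroup_normalizer (S.isPGroup'.to_le hA.le) inf_le_right fun hs => by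
    have := hs.card_le (Tech.isPGroup_cj g S.isPGroup') (Tech.cj_centralizer_singleton g z ▸ Tech.cj_mono g hSz)
    rw [Tech.card_cj] at this
    exact hA.ne (eq_of_le_of_card_ge hA.le this)
  generalize (S : Subgroup G) ⊓ centralizer {g * z * g⁻¹} = A at hA hy hzA key hAR hRN
  have hSN : (S : Subgroup G) ≤ normalizer (A : Set G) :=
    (key _ (Core.lt_inf_normalizer_of_isPGroup S.isPGroup' hA) inf_le_left).ge.trans inf_le_right
  obtain ⟨m, hm, hmR⟩ := (Tech.IsSylowIn.of_sylow S hSN).exists_cj_le hR hRN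
  have e1 : Tech.cj m R = S := key _ (by
    rw [← Tech.mem_normalizer_iff_cj.1 hm]
    exact (Tech.cj_mono m hAR.le).lt_of_ne fun e => hAR.ne (Tech.cj_injective m e)) hmR
  have e2 := fus (m * g) (by
    rw [← e1, show m * g * z * (m * g)⁻¹ = m * (g * z * g⁻¹) * m⁻¹ by group, ← Tech.cj_centralizer_singleton]
    exact Tech.cj_mono m hRC)
  obtain ⟨s, hs, hsA⟩ := SetLike.exists_of_lt hA
  have hz' := (h.of_injective _ (normalizer (A : Set G)).subtype_injective).mem_center (S.subtype hSN)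
    (A := A.subgroupOf _) (s := ⟨s, hSN hs⟩) (z := ⟨z, le_normalizer hzA⟩) hs hsA (by
      rw [Sylow.coe_subtype, ← key (A ⊔ zpowers s) (left_lt_sup.2 fun e => hsA (e (mem_zpowers s)))
        (sup_le hA.le (zpowers_le.2 hs)), subgroupOf_sup le_normalizer (zpowers_le.2 (hSN hs))]
      refine sup_le_sup_left ?_ _
      rintro ⟨x, hx⟩ ⟨k, rfl⟩
      exact ⟨k, rfl⟩) hzA fun x hx => mem_centralizer_singleton_iff.2
        (Subtype.ext (mem_centralizer_singleton_iff.1 (hSz hx)))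
  have e3 : m * z = z * m := congrArg Subtype.val (mem_center_iff.1 hz' ⟨m, hm⟩)
  refine hgz ?_
  calc g * z * g⁻¹ = m⁻¹ * (m * g * z * (m * g)⁻¹) * m := by group
    _ = z := by rw [e2, mul_assoc, ← e3, inv_mul_cancel_left]

theorem SN.comm_of_center (h : SN G) (S : Sylow 2 G) [IsMulCommutative (S : Subgroup G)]
    (hS : ¬ IsCyclic (S : Subgroup G)) {t : G} (ht : orderOf t = 2) (htS : t ∈ (S : Subgroup G)) (hz : t ∈ center G) :
    IsMulCommutative G := by
  haveI : Fact (Nat.Prime 2) := ⟨Nat.prime_two⟩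
  obtain ⟨K, hK, hSK⟩ := exists_odd_compl S
  have hKN : K ≤ normalizer ((S : Subgroup G) : Set G) := hSK ▸ le_sup_right
  have hcop := Coprime.coprime_card_of_isPGroup S.isPGroup' (Nat.coprime_two_right.2 hK)
  have hf := Coprime.centralizer_inf_commutator_eq_bot hKN hcop
  have hle := Coprime.commutator_le_of_le_normalizer hKN
  have hb : ⁅(S : Subgroup G), K⁆ = ⊥ := by
    by_cases hc : IsMulCommutative (⁅(S : Subgroup G), K⁆ ⊔ K : Subgroup G)
    · exact le_bot_iff.1 (hf ▸ le_inf (fun a ha k hk => setLike_mul_comm (mem_sup_right hk) (mem_sup_left ha)) le_rfl)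
    have h1 := (h _ hc).le (center_le_normalizer _ hz)
    rw [← SetLike.mem_coe, coe_mul_of_right_le_normalizer_left _ _ (Core.normalizer_inf_le_normalizer_commutator _ _
      |>.trans' (le_inf hKN le_normalizer))] at h1
    obtain ⟨a, ha, k, hk, e⟩ := h1
    have h2 : k = 1 := mem_bot.1 (disjoint_iff_inf_le.1 (disjoint_of_coprime_natCard hcop) ⟨hk, by
      rw [eq_inv_mul_iff_mul_eq.2 e]
      exact (S : Subgroup G).mul_mem ((S : Subgroup G).inv_mem (hle ha)) htS⟩)
    simp only [h2, mul_one] at e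
    exact absurd (mem_bot.1 (hf ▸ mem_inf.2 ⟨center_le_centralizer _ hz, e ▸ ha⟩)) (StrEmb.ne_one_of_orderOf ht)
  obtain ⟨N, hN, hc⟩ := (Transfer.hasNormalPComplement_iff_sylow S).1 (Transfer.burnside_normal_complement S
    (hSK ▸ sup_le (le_centralizer _) (le_centralizer_iff.1 (commutator_eq_bot_iff_le_centralizer.1 hb))))
  have key : ∀ s ∈ (S : Subgroup G), IsMulCommutative (N ⊔ zpowers s : Subgroup G) := fun s hs => by
    haveI : (N ⊔ zpowers s).Normal := normalizer_eq_top_iff.1 (top_le_iff.1 (hc.sup_eq_top ▸ sup_le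
      (le_sup_left.trans le_normalizer) ((le_inf (by rw [normalizer_eq_top]; exact le_top)
        ((le_centralizer _).trans ((centralizer_le (zpowers_le.2 hs)).trans (centralizer_le_normalizer _)))).trans
        (normalizer_inf_normalizer_le_normalizer_sup _ _))))
    refine h.comm fun e => hS ?_
    rw [show (S : Subgroup G) = zpowers s from le_antisymm (fun x hx => ?_) (zpowers_le.2 hs)]
    · infer_instance
    obtain ⟨n, hn, y, hy, rfl⟩ := mem_sup_of_normal_left.1 (e.ge (mem_top x))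
    rwa [disjoint_def.1 hc.disjoint hn ((mul_mem_cancel_right (zpowers_le.2 hs hy)).1 hx), one_mul]
  refine ⟨⟨fun a b => ?_⟩⟩
  obtain ⟨⟨⟨n, hn⟩, s, hs⟩, rfl⟩ := hc.2 a
  obtain ⟨⟨⟨m, hm⟩, r, hr⟩, rfl⟩ := hc.2 b
  have c : ∀ s ∈ (S : Subgroup G), ∀ n ∈ N, Commute n s := fun s hs n hn =>
    haveI := key s hs
    setLike_mul_comm (mem_sup_left hn : n ∈ N ⊔ zpowers s) (mem_sup_right (mem_zpowers s))
  haveI := key s hs
  exact ((show Commute n m from setLike_mul_comm (mem_sup_left hn : n ∈ N ⊔ zpowers s) (mem_sup_left hm)).mul_right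
    (c r hr n hn)).mul_left ((c s hs m hm).symm.mul_right (setLike_mul_comm hs hr))

theorem SN.l2even (hFT : FTStmt.{u}) {G : Type u} [Group G] [Finite G] [IsSimpleGroup G] (hG : ¬ IsMulCommutative G)
    (h : SN G) : IsoL2Even G := by
  haveI : Fact (Nat.Prime 2) := ⟨Nat.prime_two⟩
  have h2 := (even_card_of_not_isSolvable hFT (not_isSolvable_of_simple hG)).two_dvd
  have hAC : AbCent.AC G := fun t ht a b ha hb => by
    obtain ⟨S, hS⟩ := exists_sylow_mem (p := 2) (k := 1) (x := t) (by rw [pow_one, ← ht, pow_orderOf_eq_one])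
    haveI := h.comm_sylow hG h2 S
    have hle : (S : Subgroup G) ≤ centralizer {t} := fun s hs =>
      mem_centralizer_singleton_iff.2 (setLike_mul_comm hs hS)
    haveI : IsMulCommutative (S.subtype hle : Subgroup (centralizer ({t} : Set G))) :=
      ⟨⟨fun x y => Subtype.ext (Subtype.ext (setLike_mul_comm (s := (S : Subgroup G)) x.2 y.2))⟩⟩
    haveI := (h.of_injective _ (centralizer {t}).subtype_injective).comm_of_center (S.subtype hle)
      (fun hc => FT3.not_isCyclic_sylow hG h2 S ((subgroupOfEquivOfLe hle).isCyclic.1 hc)) (t := ⟨t, hle hS⟩)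
      (by rw [orderOf_mk, ht]) hS (mem_center_iff.2 fun c => Subtype.ext (mem_centralizer_singleton_iff.1 c.2))
    exact setLike_mul_comm (mem_centralizer_singleton_iff.2 ha) (mem_centralizer_singleton_iff.2 hb)
  obtain ⟨S⟩ : Nonempty (Sylow 2 G) := inferInstance
  obtain ⟨z, hz, hz2, -⟩ := exists_center_sylow S h2
  obtain ⟨F, _, _, hF, h4, ⟨e⟩⟩ := (hAC.hyp S (FT3.not_isCyclic_sylow hG h2 S) fun hn => normalizer_sylow_ne_top hG S
    (fun e => StrEmb.ne_one_of_orderOf hz2 (mem_bot.1 (e ▸ hz))) (normalizer_eq_top _)).exists_iso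
  have hZ : center G = ⊥ := (inferInstance : (center G).Normal).eq_bot_or_eq_top.resolve_right fun e =>
    hG ⟨⟨fun a b => mem_center_iff.1 (e.ge (mem_top b)) a⟩⟩
  haveI : Unique (center G) := hZ ▸ inferInstance
  exact ⟨F, _, _, hF, h4, ⟨(e.trans MulEquiv.prodUnique).trans (SL2.pmEquiv (CharTwo.two_eq_zero (R := F)))⟩⟩

section PGL

open Dickson

variable {F : Type*} [Field F] [Finite F]

theorem not_commute_unip {x : Pbar F} {h u : PGL(2, F)} (hx : h • x = x) (hh : ¬ IsUnip x h) (hu : IsUnip x u)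
    (hc : u * h = h * u) : u = 1 := by
  rw [IsUnip] at hh
  push Not at hh
  obtain ⟨h1, y, hy, hyx⟩ := hh hx
  refine hu.2.resolve_right fun hu2 => ?_
  rcases bar_fix_cases h1 hyx.symm hx hy (z := u • y) (by rw [smul_smul, ← hc, mul_smul, hy]) with e | e
  · exact hyx ((smul_left_cancel_iff u).1 (e.trans hu.1.symm))
  · exact hyx (hu2 y e)

theorem range_psl_top [CharP F 2] : (pslPGL F).range = ⊤ :=
  index_eq_one.1 (index_psl_even (even_iff_two_dvd.2 (char_dvd_card 2)))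

theorem card_stab_top [CharP F 2] (x : P1 F) : Nat.card (stab ⊤ (emb x)) = Nat.card F * (Nat.card F - 1) := by
  simpa using card_stab_emb (L := ⊤) le_top x

theorem SN.prime [CharP F 2] (h : SN PGL(2, F)) (h4 : 4 ≤ Nat.card F) : (Nat.card F - 1).Prime := by
  obtain ⟨r, hr, hd⟩ := Nat.exists_prime_and_dvd (n := Nat.card F - 1) (by omega)
  have hB := card_stab_top (P1.inf : P1 F)
  have hU := card_unip_emb (P1.inf : P1 F)
  generalize emb (P1.inf : P1 F) = x at hB hU
  obtain ⟨g, hg, hgo⟩ := Core.exists_mem_orderOf_eq_of_dvd_card hr (hB ▸ hd.mul_left _)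
  obtain ⟨⟨u, hu⟩, hu1⟩ := ne_bot_iff_exists_ne_one.1 fun e : unip x = ⊥ => by
    rw [e, card_bot] at hU
    omega
  have h2 := char_dvd_card (F := F) 2
  have hgu : ¬ IsUnip x g := fun e => hr.one_lt.ne' (hgo ▸ orderOf_eq_one_iff.2 (bar_unip_eq_one_of_pow e (n := r)
    (fun e => by
      have := ((Nat.prime_dvd_prime_iff_eq Nat.prime_two hr).1 ((CharP.cast_eq_zero_iff F 2 r).1 e) ▸ hd :)
      omega) (hgo ▸ pow_orderOf_eq_one g)))
  have hle : unip x ⊔ zpowers g ≤ stab ⊤ x := sup_le (fun a ha => ⟨trivial, ha.1⟩) (zpowers_le.2 hg)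
  have hH : stab ⊤ x ≤ unip x ⊔ zpowers g := fun b hb => (h _ fun hc => hu1 (Subtype.ext (not_commute_unip hg.2 hgu hu
    (comm_iff.1 hc _ (mem_sup_left hu) _ (mem_sup_right (mem_zpowers g)))))).le
    (Core.mem_normalizer_of_forall_conj_mem fun a ha => by
      simpa using mul_mem (mem_sup_left (bar_isUnip_commutator hb.2 (hle ha).2 : _ ∈ unip x)) ha)
  have h3 := Coprime.relIndex_dvd_of_le_sup ((zpowers_le.2 hg).trans (stab_le_normalizer x)) hH
  have h5 := Tech.card_mul_relIndex' (le_sup_left.trans hle)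
  rw [hB, hU] at h5
  rw [Nat.eq_of_mul_eq_mul_left (by omega) h5, Nat.card_zpowers, hgo] at h3
  rwa [Nat.dvd_antisymm h3 hd]

theorem mem_of_le_pairStab [CharP F 2] {H : Subgroup PGL(2, F)} (hH : ¬ IsMulCommutative H) {x y : Pbar F}
    (hxy : x ≠ y) (hle : H ≤ pairStab ⊤ x y) {g : PGL(2, F)} (hg : g ∈ normalizer (H : Set PGL(2, F))) : g ∈ H := by
  haveI : Fact (Nat.Prime 2) := ⟨Nat.prime_two⟩
  have hc := isCyclic_stab2 2 (⊤ : Subgroup PGL(2, F)) hxy
  have hcm : ∀ a ∈ stab2 ⊤ x y, ∀ b ∈ stab2 ⊤ x y, a * b = b * a := comm_iff.1 hc.isMulCommutative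
  obtain ⟨s, hs, hsx, hsy⟩ : ∃ s ∈ H, s • x = y ∧ s • y = x := by
    by_contra hn
    exact hH (comm_iff.2 fun a ha b hb => hcm a ⟨trivial, (hle ha).2.resolve_right fun e => hn ⟨a, ha, e⟩⟩ b
      ⟨trivial, (hle hb).2.resolve_right fun e => hn ⟨b, hb, e⟩⟩)
  have hcomm : ∀ a ∈ H, ∀ b ∈ H, (a * b * a⁻¹ * b⁻¹) • x = x ∧ (a * b * a⁻¹ * b⁻¹) • y = y := fun a ha b hb => by
    rcases (hle hb).2 with ⟨b1, b2⟩ | ⟨b1, b2⟩ <;> rcases (hle ha).2 with ⟨a1, a2⟩ | ⟨a1, a2⟩ <;>
      simp only [mul_smul, a1, a2, b1, b2, inv_smul_eq_iff.2 a1.symm, inv_smul_eq_iff.2 a2.symm,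
        inv_smul_eq_iff.2 b1.symm, inv_smul_eq_iff.2 b2.symm, and_self]
  obtain ⟨a, ha, b, hb, hab⟩ : ∃ a ∈ H, ∃ b ∈ H, a * b ≠ b * a := by
    by_contra hn
    push Not at hn
    exact hH (comm_iff.2 hn)
  have hc1 : a * b * a⁻¹ * b⁻¹ ≠ 1 := fun e => hab (by rwa [mul_inv_eq_one, mul_inv_eq_iff_eq_mul] at e)
  have key : ∀ z, (∀ a ∈ H, ∀ b ∈ H, (a * b * a⁻¹ * b⁻¹) • z = z) → g • z = x ∨ g • z = y := fun z hz =>
    bar_fix_cases hc1 hxy (hcomm a ha b hb).1 (hcomm a ha b hb).2 (by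
      have := hz _ (Tech.conj_mem_of_mem_normalizer' hg ha) _ (Tech.conj_mem_of_mem_normalizer' hg hb)
      rwa [show g⁻¹ * a * g * (g⁻¹ * b * g) * (g⁻¹ * a * g)⁻¹ * (g⁻¹ * b * g)⁻¹ = g⁻¹ * (a * b * a⁻¹ * b⁻¹) * g by group,
        conj_smul_iff] at this)
  have fin : ∀ g ∈ normalizer (H : Set PGL(2, F)), g • x = x → g • y = y → g ∈ H := fun g hg h1 h2 => by
    refine StrEmb.mem_of_odd_of_mul_self_mem (Nat.coprime_two_right.1
      (coprime_orderOf_of_fix_two 2 hxy (isOfFinOrder_of_finite g) h1 h2)) ?_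
    have := mul_mem (Tech.conj_mem_of_mem_normalizer hg hs) (inv_mem hs)
    rwa [mul_assoc, mul_assoc, ← mul_assoc s, ← conj_inv, swap_conj_eq_inv hxy ⟨trivial, h1, h2⟩ hsx hsy,
      inv_inv] at this
  have hne : g • x ≠ g • y := fun e => hxy ((smul_left_cancel_iff g).1 e)
  rcases key x fun a ha b hb => (hcomm a ha b hb).1 with e1 | e1 <;>
    rcases key y fun a ha b hb => (hcomm a ha b hb).2 with e2 | e2
  · exact absurd (e1.trans e2.symm) hne
  · exact fin g hg e1 e2
  · exact (mul_mem_cancel_left hs).1 (fin _ (mul_mem (le_normalizer hs) hg) (by rw [mul_smul, e1, hsy])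
      (by rw [mul_smul, e2, hsx]))
  · exact absurd (e1.trans e2.symm) hne

theorem sn_pgl [CharP F 2] (hp : (Nat.card F - 1).Prime) : SN PGL(2, F) := fun H hH => le_antisymm (fun g hg => by
  haveI : Fact (Nat.Prime 2) := ⟨Nat.prime_two⟩
  rcases dickson_fin 2 H with ⟨x, hx⟩ | ⟨x, y, hxy, h⟩ | ⟨x, y, hxy, h⟩ | h | h | h | ⟨K, k, hK, h⟩
  · obtain ⟨a, ha, b, hb, hab⟩ : ∃ a ∈ H, ∃ b ∈ H, a * b ≠ b * a := by
      by_contra hn
      push Not at hn
      exact hH (comm_iff.2 hn)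
    have hc1 : a * b * a⁻¹ * b⁻¹ ≠ 1 := fun e => hab (by rwa [mul_inv_eq_one, mul_inv_eq_iff_eq_mul] at e)
    have hc := bar_isUnip_commutator (hx ha).2 (hx hb).2
    have hcH := mul_mem (mul_mem (mul_mem ha hb) (inv_mem ha)) (inv_mem hb)
    have hgx : g ∈ stab ⊤ (emb x) := ⟨trivial, hc.2.resolve_left hc1 _
      (conj_smul_iff.1 (hx (Tech.conj_mem_of_mem_normalizer' hg hcH)).2)⟩
    obtain ⟨d, hd, hdu⟩ : ∃ d ∈ H, ¬ IsUnip (emb x) d := by
      by_contra hn
      push Not at hn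
      exact hab (bar_unip_comm (hn a ha) (hn b hb))
    have hdo : orderOf d = Nat.card F - 1 := by
      have := hdu
      rw [IsUnip] at this
      push Not at this
      obtain ⟨h1, y, hy, hyx⟩ := this (hx hd).2
      rcases orderOf_dvd_of_fix_two (L := ⊤) le_top trivial hyx.symm (hx hd).2 hy with h | h
      · exact ((Nat.dvd_prime hp).1 (by simpa using h.1)).resolve_left (orderOf_eq_one_iff.not.2 h1)
      · exact absurd ⟨x, rfl⟩ h.2.1
    have h1 := Frob.card_modEq_one_of_fpf (K := unip (emb x) ⊓ H) (H := zpowers d) ((le_inf ((zpowers_le.2 (hx hd)).trans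
      (stab_le_normalizer _)) ((zpowers_le.2 hd).trans le_normalizer)).trans inf_normalizer_le_normalizer_inf)
      fun e he e1 => Frob.fpf_iff.2 fun u hu hue => by_contra fun u1 => e1 (mem_bot.1
        (Core.zpowers_inf_eq_bot_of_prime_orderOf (H := centralizer {u}) (hdo ▸ hp) (fun hc => u1 (not_commute_unip
          (hx hd).2 hdu hu.1 (mem_centralizer_singleton_iff.1 hc).symm)) ▸
          mem_inf.2 ⟨he, mem_centralizer_singleton_iff.2 hue.symm⟩))
    have h2 := card_le_of_le (inf_le_left : unip (emb x) ⊓ H ≤ _)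
    have h3 := (one_lt_card_iff_ne_bot _).2 (ne_bot_iff_exists_ne_one.2
      ⟨(⟨_, hc, hcH⟩ : (unip (emb x) ⊓ H : Subgroup _)), fun e => hc1 (congrArg Subtype.val e)⟩)
    rw [Nat.card_zpowers, hdo] at h1
    rw [card_unip_emb] at h2
    have h4 := Nat.le_of_dvd (by omega) ((Nat.modEq_iff_dvd' h3.le).1 h1.symm)
    refine (eq_of_le_of_card_ge hx (Nat.le_of_dvd Nat.card_pos ?_)).ge hgx
    rw [card_stab_top]
    refine Nat.Coprime.mul_dvd_of_dvd_of_dvd (Nat.coprime_self_sub_right (by omega) |>.2 (Nat.coprime_one_right _))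
      ((show Nat.card (unip (emb x) ⊓ H : Subgroup _) = Nat.card F by omega) ▸ card_dvd_of_le inf_le_right)
      (hdo ▸ orderOf_dvd_natCard _ hd)
  · exact mem_of_le_pairStab hH (emb_injective.ne hxy) h hg
  · exact mem_of_le_pairStab hH hxy.2.1 h hg
  · exact absurd rfl h.1
  · exact absurd rfl h.1
  · exact absurd rfl h.1
  · have h1 : Nat.card K - 1 ∣ Nat.card F - 1 := by
      rw [← Nat.card_units, ← Nat.card_units]
      exact card_dvd_of_injective (Units.map K.subtype.toMonoidHom) (Units.map_injective K.subtype_injective)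
    have h2 := ((Nat.dvd_prime hp).1 h1).resolve_left (by omega)
    obtain rfl : K = ⊤ := SetLike.coe_injective (Set.eq_top_of_card_le_of_finite (by
      change _ ≤ Nat.card K
      omega))
    exact psl_le_of_top h (range_psl_top.ge (mem_top g))) le_normalizer

end PGL

theorem s4073 (hFT : FTStmt.{u}) {G : Type u} [Group G] [Finite G] [IsSimpleGroup G] (hna : ¬ IsMulCommutative G) :
    (∀ H : Subgroup G, ¬ IsMulCommutative H → Subgroup.normalizer (H : Set G) = H) ↔
    ∃ n : ℕ, 2 ≤ n ∧ (2 ^ n - 1).Prime ∧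
      Nonempty (G ≃* Matrix.ProjectiveSpecialLinearGroup (Fin 2) (GaloisField 2 n)) := by
  haveI : Fact (Nat.Prime 2) := ⟨Nat.prime_two⟩
  constructor
  · intro h
    obtain ⟨n, hn, -, -, F, _, _, hF, ⟨e⟩⟩ := l2even_data (SN.l2even hFT hna h)
    haveI := charP_of_card_eq Nat.prime_two hF
    letI : Fintype (GaloisField 2 n) := Fintype.ofFinite _
    obtain ⟨e'⟩ := nonempty_psl_equiv (F := F) (K := GaloisField 2 n) 2
      (by rw [hF, ← Nat.card_eq_fintype_card, GaloisField.card 2 n (by omega)])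
    let f := MulEquiv.ofBijective (Dickson.pslPGL F) ⟨Dickson.pslPGL_injective, MonoidHom.range_eq_top.1 range_psl_top⟩
    rw [← Nat.card_eq_fintype_card] at hF
    exact ⟨n, hn, hF ▸ (SN.of_injective h (e.trans f).symm.toMonoidHom (e.trans f).symm.injective).prime
      (hF ▸ Nat.pow_le_pow_right two_pos hn), ⟨e.trans e'⟩⟩
  · rintro ⟨n, hn, hp, ⟨e⟩⟩
    exact (sn_pgl (by rwa [GaloisField.card 2 n (by omega)])).of_injective ((Dickson.pslPGL _).comp e.toMonoidHom)
      (Dickson.pslPGL_injective.comp e.injective)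

end CfsgLib.CIT.App
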