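import Mathlib
import Cfsg.Agent.Lib.CIT.AppSN
import Cfsg.Agent.Lib.Fgs.Kegel
import Cfsg.Agent.Lib.D8Cent.Main
import Cfsg.Agent.S0108

/-!
Groups with a partition: the case of a non-trivial Fitting subgroup (Baer, Kegel).
-/

set_option autoImplicit false
set_option linter.unusedSectionVars false
set_option linter.style.haveILetI false

namespace CfsgLib.CIT.App

open Cfsg Subgroup
open scoped commutatorElement IsMulCommutative MatrixGroups Pointwise

universe u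

variable {G : Type*} [Group G] [Finite G]

/-- A conjugation invariant non-trivial partition; `c x` is the component containing `x ≠ 1`. -/
structure Part (c : G → Subgroup G) : Prop where
  mem : ∀ x, x ∈ c x
  eq : ∀ {x y}, x ≠ 1 → y ≠ 1 → x ∈ c y → c x = c y
  conj : ∀ (g) {x y}, y ∈ c x → g * y * g⁻¹ ∈ c (g * x * g⁻¹)
  ne : ∀ {x}, x ≠ 1 → c x ≠ ⊤

theorem exists_part (S : Set (Subgroup G)) (hS2 : ∃ H ∈ S, ∃ K ∈ S, H ≠ K) (hS1 : ∀ H ∈ S, H ≠ ⊥)
    (hp : ∀ g : G, g ≠ 1 → ∃! H : Subgroup G, H ∈ S ∧ g ∈ H) : ∃ c : G → Subgroup G, Part c := by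
  classical
  choose! P hP hu using hp
  have h1 : ∀ x : G, x ∈ P x := fun x => by
    by_cases h : x = 1
    · exact h ▸ one_mem _
    · exact (hP x h).2
  refine ⟨fun x => ⨅ h : G, (P (h * x * h⁻¹)).comap (MulAut.conj h).toMonoidHom, fun x => mem_iInf.2 fun h => h1 _,
    fun {x y} hx hy e => iInf_congr fun h => ?_, fun g x y e => mem_iInf.2 fun h => ?_, fun {x} hx e => ?_⟩
  · rw [hu (h * x * h⁻¹) (by simpa using hx) _ ⟨(hP _ (by simpa using hy)).1, mem_iInf.1 e h⟩]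
  · simpa [mul_assoc] using mem_iInf.1 e (h * g)
  · have h2 : P x = ⊤ := eq_top_iff.2 fun y _ => by simpa using mem_iInf.1 (e.ge (mem_top y)) 1
    have h3 : ∀ H ∈ S, H = ⊤ := fun H hH => by
      obtain ⟨⟨y, hy⟩, hy1⟩ := ne_bot_iff_exists_ne_one.1 (hS1 H hH)
      have hy2 : y ≠ 1 := fun e => hy1 (Subtype.ext e)
      rw [hu y hy2 H ⟨hH, hy⟩, ← hu y hy2 _ ⟨h2 ▸ (hP x hx).1, mem_top y⟩]
    obtain ⟨H, hH, K, hK, hHK⟩ := hS2
    exact hHK ((h3 H hH).trans (h3 K hK).symm)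

theorem mul_pow_mul_inv_mem {X : Subgroup G} {k y : G} (hk : k ∈ X) (hy : y ∈ normalizer (X : Set G)) (n : ℕ) :
    (k * y) ^ n * (y ^ n)⁻¹ ∈ X := by
  induction n with
  | zero => simp
  | succ n ih =>
    have := mul_mem hk ((mem_normalizer_iff.1 hy _).1 ih)
    rwa [show k * (y * ((k * y) ^ n * (y ^ n)⁻¹) * y⁻¹) = k * y * (k * y) ^ n * (y * y ^ n)⁻¹ by group, ← pow_succ',
      ← pow_succ'] at this

theorem exists_fixed {K : Subgroup G} {u : G} (hu : u ∈ normalizer (K : Set G)) (hp : (orderOf u).Prime)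
    (hd : orderOf u ∣ Nat.card K) : ∃ z ∈ K, z ≠ 1 ∧ Commute z u := by
  by_contra hn
  push Not at hn
  have := Frob.coprime_card_of_fpf (zpowers_le.2 hu) fun e he e1 => Frob.fpf_iff.2 fun z hz hze => by_contra fun z1 =>
    e1 (mem_bot.1 (Core.zpowers_inf_eq_bot_of_prime_orderOf (H := centralizer {z}) hp
      (fun hc => hn z hz z1 (mem_centralizer_singleton_iff.1 hc).symm) ▸
        mem_inf.2 ⟨he, mem_centralizer_singleton_iff.2 hze.symm⟩))
  rw [Nat.card_zpowers] at this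
  exact hp.one_lt.ne' (this.eq_one_of_dvd hd)

theorem exists_lift_norm {K : Subgroup G} [K.Normal] {q : ℕ} [Fact q.Prime] {T' : Subgroup (G ⧸ K)}
    (hT : IsPGroup q T') (h0 : T' ≠ ⊥) {y : G} (hy : (y : G ⧸ K) ∈ normalizer (T' : Set (G ⧸ K))) :
    ∃ T : Subgroup G, IsPGroup q T ∧ ¬ T ≤ K ∧ ∃ k ∈ K, k * y ∈ normalizer (T : Set G) := by
  obtain ⟨T, hS⟩ := Tech.exists_isSylowIn q (T'.comap (QuotientGroup.mk' K))
  have hK : K ≤ T'.comap (QuotientGroup.mk' K) := (QuotientGroup.ker_mk' K).ge.trans (ker_le_comap _ _)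
  have hs : T ⊔ K = T'.comap (QuotientGroup.mk' K) := by
    obtain ⟨n, hn⟩ := hT.exists_card_eq
    have h1 : K.relIndex (T'.comap (QuotientGroup.mk' K)) = q ^ n := by
      conv_lhs => congr; rw [← QuotientGroup.ker_mk' K]
      rw [relIndex_ker, map_comap_eq_self_of_surjective (QuotientGroup.mk'_surjective K), hn]
    refine le_antisymm (sup_le hS.le hK) (relIndex_eq_one.1 (Nat.Coprime.eq_one_of_dvd
      ((((Nat.Prime.coprime_iff_not_dvd Fact.out).2 fun e => hS.toSylow.not_dvd_index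
        (e.trans (relIndex_dvd_of_le_left _ le_sup_left))).pow_left n).symm) (h1 ▸ relIndex_dvd_of_le_left _ le_sup_right)))
  refine ⟨T, hS.pgroup, fun e => h0 ?_, ?_⟩
  · rw [← map_comap_eq_self_of_surjective (QuotientGroup.mk'_surjective K) T', ← hs, sup_eq_right.2 e,
      Subgroup.map_eq_bot_iff, QuotientGroup.ker_mk']
  · obtain ⟨n, hn, h⟩ := hS.frattini (le_normalizer_comap _ hy)
    obtain ⟨t, ht, k, hk, rfl⟩ := mem_sup_of_normal_right.1 (hs ▸ hn)
    exact ⟨k, hk, (mul_mem_cancel_left (le_normalizer ht)).1 (mul_assoc t k y ▸ h)⟩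

theorem kegel' {G : Type u} [Group G] [Finite G] {p : ℕ} (hp : p.Prime) {X : Subgroup G} {y : G}
    (hy : y ∈ normalizer (X : Set G)) (h : ∀ k ∈ X, (k * y) ^ p = 1) : Group.IsNilpotent X :=
  haveI := Fgs.kegel (fun G _ _ q _ hq P h1 h2 => (Cfsg.Agent.S0108.result hq P).mpr ⟨h1, h2⟩) hp
    (X.subgroupOf (normalizer (X : Set G))) ⟨y, hy⟩ fun k hk => Subtype.ext (h k hk)
  nilpotent_of_mulEquiv (subgroupOfEquivOfLe le_normalizer)

namespace Part

variable {c : G → Subgroup G} (h : Part c)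
include h

theorem ti {x y g : G} (hx : x ≠ 1) (hy : y ∈ c x) (h1 : y ≠ 1) (hg : g * y * g⁻¹ ∈ c x) :
    g ∈ normalizer (c x : Set G) :=
  Core.mem_normalizer_of_forall_conj_mem fun z hz => by
    rw [← h.eq (by simpa using h1) hx hg]
    exact h.conj g (h.eq h1 hx hy ▸ hz)

theorem norm_of_commute {x y g : G} (hx : x ≠ 1) (hy : y ∈ c x) (h1 : y ≠ 1) (hg : Commute g y) :
    g ∈ normalizer (c x : Set G) := h.ti hx hy h1 (by rwa [hg.eq, mul_inv_cancel_right])

theorem eq_one {x y z : G} (hx : x ≠ 1) (hy : y ∉ c x) (h1 : z ∈ c x) (h2 : z ∈ c y) : z = 1 := by_contra fun e =>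
  hy (h.eq e hx h1 ▸ h.eq e (fun e : y = 1 => hy (e ▸ one_mem _)) h2 ▸ h.mem y)

theorem pow_eq_one {x w : G} {n : ℕ} (hx : x ≠ 1) (hw : w ∉ c x) (hn : w ^ n ∈ c x) : w ^ n = 1 :=
  h.eq_one hx hw hn (pow_mem (h.mem w) n)

theorem not_mem {x y : G} (hx : x ≠ 1) (hy : y ∉ c x) : x ∉ c y := fun e =>
  hy (h.eq hx (fun e : y = 1 => hy (e ▸ one_mem _)) e ▸ h.mem y)

theorem order_dvd {x y : G} (hx : x ≠ 1) (hy : y ∉ c x) (hc : Commute x y) : orderOf x ∣ orderOf y := by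
  have e : (x * y) ^ orderOf y = x ^ orderOf y := by rw [hc.mul_pow, pow_orderOf_eq_one, mul_one]
  exact orderOf_dvd_of_pow_eq_one (e ▸ h.pow_eq_one hx (fun e => hy ((mul_mem_cancel_left (h.mem x)).1 e))
    (e ▸ pow_mem (h.mem x) _))

theorem order {x y z : G} (hx : x ≠ 1) (hz : z ∈ c x) (h1 : z ≠ 1) (hy : y ∉ c x) (hc : Commute z y) :
    orderOf z = orderOf y ∧ (orderOf y).Prime := by
  have key : ∀ z ∈ c x, z ≠ 1 → Commute z y → orderOf z = orderOf y := fun z hz h1 hc => by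
    rw [← h.eq h1 hx hz] at hy
    exact Nat.dvd_antisymm (h.order_dvd h1 hy hc)
      (h.order_dvd (fun e => hy (e ▸ one_mem _)) (h.not_mem h1 hy) hc.symm)
  obtain ⟨p, hp, hd⟩ := Nat.exists_prime_and_dvd (orderOf_eq_one_iff.not.2 h1)
  obtain ⟨n, hn⟩ := exists_pow_orderOf_eq hd
  exact ⟨key z hz h1 hc, key _ (pow_mem hz n) (fun e => hp.one_lt.ne' (by rw [← hn, e, orderOf_one]))
    (hc.pow_left n) ▸ hn ▸ hp⟩

theorem coset {x y k : G} {n : ℕ} (hx : x ≠ 1) (hy : y ∉ c x) (hn : y ∈ normalizer (c x : Set G)) (h1 : y ^ n = 1)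
    (hk : k ∈ c x) : (k * y) ^ n = 1 :=
  h.pow_eq_one hx (fun e => hy ((mul_mem_cancel_left hk).1 e)) (by simpa [h1] using mul_pow_mul_inv_mem hk hn n)

section Normal

variable {x : G} (hx : x ≠ 1) [hn : (c x).Normal]
include hx

theorem pow_of_dvd {g : G} (hg : g ∉ c x) {p : ℕ} (hp : p.Prime) (h1 : p ∣ orderOf g) (h2 : p ∣ Nat.card (c x))
    {w : G} (hw : w ∈ c g) : w ^ p = 1 := by
  obtain ⟨n, hu⟩ := exists_pow_orderOf_eq h1
  have hg1 : g ≠ 1 := fun e => hg (e ▸ one_mem _)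
  have hu1 : g ^ n ≠ 1 := fun e => hp.one_lt.ne' (by rw [← hu, e, orderOf_one])
  obtain ⟨z, hz, hz1, hzu⟩ := exists_fixed (K := c x) (u := g ^ n) (by rw [normalizer_eq_top]; trivial) (hu ▸ hp) (hu ▸ h2)
  have hzg : z ∉ c g := fun e => hz1 (h.eq_one hx hg hz e)
  have hN := h.norm_of_commute hg1 (pow_mem (h.mem g) n) hu1 hzu
  have hc : Commute w z := commutatorElement_eq_one_iff_commute.1 (h.eq_one hx hg
    (mul_mem (hn.conj_mem z hz w) (inv_mem hz)) (by
      simpa [commutatorElement_def, mul_assoc] using mul_mem hw ((mem_normalizer_iff.1 hN _).1 (inv_mem hw))))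
  by_cases e : w = 1
  · rw [e, one_pow]
  rw [← hu, (h.order hg1 (pow_mem (h.mem g) n) hu1 hzg hzu.symm).1, ← (h.order hg1 hw e hzg hc).1, pow_orderOf_eq_one]

theorem le_of_norm (hN : Group.IsNilpotent (c x)) {y : G} (hy : y ∉ c x) {p : ℕ} (hp : p.Prime) (h1 : orderOf y = p)
    (h2 : p ∣ Nat.card (c x)) {T : Subgroup G} (hT : ¬ p ∣ Nat.card T) (hyT : y ∈ normalizer (T : Set G)) :
    T ≤ c x := by
  haveI := Fact.mk hp
  have hP := (Core.isPGroup_pCore p (c x)).map (c x).subtype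
  haveI := Coprime.isSolvable_of_isPGroup hP
  haveI := ConjAct.normal_of_characteristic_of_normal (h := Core.pCore_characteristic p (c x))
  obtain ⟨q, M, -, hMn, hM, hle, ⟨hMc, -⟩, -⟩ := Core.exists_elementaryAbelian_minimal_normal_le
    (K := (pCore p (c x)).map (c x).subtype) fun e => Core.not_dvd_index_pCore_of_isNilpotent p (by
      rwa [(map_eq_bot_iff_of_injective _ (c x).subtype_injective).1 e, index_bot])
  have hMx := hle.trans (map_subtype_le _)
  have hc := Coprime.coprime_card_of_isPGroup (hP.to_le hle) ((Nat.Prime.coprime_iff_not_dvd hp).2 hT).symm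
  obtain ⟨l, rfl⟩ : ∃ l, p = l + 1 := ⟨_, (Nat.succ_pred_eq_of_pos hp.pos).symm⟩
  have h3 := le_centralizer_of_norm hc hyT (h1 ▸ pow_orderOf_eq_one y) (fun i hi => Frob.fpf_iff.2 fun t ht e =>
    by_contra fun t1 => ((Nat.Prime.coprime_iff_not_dvd hp).2 hT).symm.coprime_dvd_left (T.orderOf_dvd_natCard ht)
      |>.eq_one_of_dvd ?_ |> orderOf_eq_one_iff.not.2 t1) fun m hm => h.coset hx hy
        (by rw [normalizer_eq_top]; trivial) (h1 ▸ pow_orderOf_eq_one y) (hMx hm)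
  · obtain ⟨⟨m, hm⟩, hm1⟩ := ne_bot_iff_exists_ne_one.1 hM
    replace hm1 : m ≠ 1 := fun e => hm1 (Subtype.ext e)
    exact fun t ht => by_contra fun e => hm1 (orderOf_eq_one_iff.1 ((hc.symm.coprime_dvd_left
      (M.orderOf_dvd_natCard hm)).eq_one_of_dvd ((h.order hx (hMx hm) hm1 e (h3 ht m hm)).1 ▸ T.orderOf_dvd_natCard ht)))
  · by_cases hty : t ∈ c y
    · exact orderOf_dvd_of_pow_eq_one (h.pow_of_dvd hx hy hp h1.symm.dvd h2 hty)
    · rw [← (h.order (fun e : y = 1 => hy (e ▸ one_mem _)) (pow_mem (h.mem y) (i + 1))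
        (pow_ne_one_of_lt_orderOf (by omega) (by omega)) hty e.symm).1, ← h1]
      exact orderOf_pow_dvd _

end Normal

end Part

theorem Part.of_normal {G : Type u} [Group G] [Finite G] {c : G → Subgroup G} (h : Part c) {x : G} (hx : x ≠ 1)
    [hn : (c x).Normal] : (∃ p : ℕ, p.Prime ∧ closure {g : G | g ^ p ≠ 1} ≠ ⊤) ∨
      ∃ H : Subgroup G, IsFrobeniusComplement H := by
  by_cases hc : ∀ y ∈ c x, y ≠ 1 → centralizer {y} ≤ c x
  · exact Or.inr (exists_frob_of_centralizer_le (fun e => hx (mem_bot.1 (e ▸ h.mem x))) (h.ne hx) hc)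
  simp only [not_forall, SetLike.not_le_iff_exists, mem_centralizer_singleton_iff] at hc
  obtain ⟨z, hz, hz1, y, hyz, hy⟩ := hc
  have nt : ∀ g, g ∈ normalizer (c x : Set G) := fun g => by rw [normalizer_eq_top]; trivial
  obtain ⟨ho, hp⟩ := h.order hx hz hz1 hy hyz.symm
  have hN := kegel' hp (nt y) fun k hk => h.coset hx hy (nt y) (pow_orderOf_eq_one y) hk
  by_cases hi : ∃ g, g ∉ c x ∧ (orderOf g).Coprime (Nat.card (c x))
  · right
    obtain ⟨g, hg, hgc⟩ := hi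
    have hg1 : g ≠ 1 := fun e => hg (e ▸ one_mem _)
    have hW : ∀ p : ℕ, p.Prime → p ∣ Nat.card (c x) → ¬ p ∣ Nat.card (c g) := fun p hp h1 h2 => by
      obtain ⟨w, hw, hwo⟩ := Core.exists_mem_orderOf_eq_of_dvd_card hp h2
      have hw1 : w ≠ 1 := fun e => hp.one_lt.ne' (by rw [← hwo, e, orderOf_one])
      exact hg1 (orderOf_eq_one_iff.1 (hgc.eq_one_of_dvd ((orderOf_dvd_of_pow_eq_one (h.pow_of_dvd hx
        (fun e => hw1 (h.eq_one hx hg e hw)) hp hwo.symm.dvd h1 (h.eq hw1 hg1 hw ▸ h.mem g))).trans h1)))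
    refine ⟨c g, Frob.isFrobeniusComplement_iff.2 ⟨fun e => hg1 (mem_bot.1 (e ▸ h.mem g)), h.ne hg1,
      fun y' w hw hw1 hyw => by_contra fun hy' => ?_⟩⟩
    obtain ⟨r, hr, hd⟩ := Nat.exists_prime_and_dvd (orderOf_eq_one_iff.not.2 fun e : y' = 1 => hy' (e ▸ one_mem _))
    obtain ⟨n, hu⟩ := exists_pow_orderOf_eq hd
    have hu1 : y' ^ n ≠ 1 := fun e => hr.one_lt.ne' (by rw [← hu, e, orderOf_one])
    have huW : y' ^ n ∉ c g := fun e => hu1 (h.pow_eq_one hg1 hy' e)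
    have huN := pow_mem (h.ti hg1 hw hw1 hyw) n
    generalize y' ^ n = u at hu hu1 huW huN
    by_cases hrK : r ∣ Nat.card (c x)
    · refine hg (h.le_of_norm hx hN (fun e => ?_) hr hu hrK (hW r hr hrK) huN (h.mem g))
      have hc : Commute g u := commutatorElement_eq_one_iff_commute.1 (h.eq_one hx hg
        (mul_mem (hn.conj_mem u e g) (inv_mem e)) (by
          simpa [commutatorElement_def, mul_assoc] using
            mul_mem (h.mem g) ((mem_normalizer_iff.1 huN _).1 (inv_mem (h.mem g)))))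
      exact hW r hr hrK (hu ▸ (h.order hg1 (h.mem g) hg1 huW hc).1 ▸ orderOf_dvd_natCard _ (h.mem g))
    have hf : ∀ a ∈ c g ⊔ zpowers u, a ≠ 1 → c x ⊓ centralizer {a} = ⊥ := fun a ha ha1 => by
      have hco : (orderOf a).Coprime (Nat.card (c x)) := Nat.Coprime.coprime_dvd_left (orderOf_dvd_natCard _ ha) (by
        rw [← Tech.card_mul_relIndex' le_sup_left]
        refine Nat.Coprime.mul_left (Nat.coprime_of_dvd fun p hp h1 h2 => hW p hp h2 h1) (Nat.Coprime.coprime_dvd_left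
          (Coprime.relIndex_dvd_of_le_sup (zpowers_le.2 huN) le_rfl) ?_)
        rwa [Nat.card_zpowers, hu, Nat.Prime.coprime_iff_not_dvd hr])
      exact Frob.fpf_iff.2 fun k hk e => by_contra fun k1 => ha1 (orderOf_eq_one_iff.1 (hco.eq_one_of_dvd (by
        by_cases e' : a ∈ c x
        · exact orderOf_dvd_natCard _ e'
        · exact (h.order hx hk k1 e' e).1 ▸ orderOf_dvd_natCard _ hk)))
    have hK : c x ≠ ⊥ := fun e => hx (mem_bot.1 (e ▸ h.mem x))
    have key : ∀ a ∈ c g, a ≠ 1 → ∀ b, (hb : b ∈ c g ⊔ zpowers u) → b ∉ c g → ¬ Commute a b := fun a ha a1 b hb hbg e => by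
      obtain ⟨o1, o2⟩ := h.order hg1 ha a1 hbg e
      obtain ⟨k, hk⟩ := (Frob.pqCond_of_fpf hK (fun a _ => nt a) hf ⟨a, mem_sup_left ha⟩ ⟨b, hb⟩
        (by rwa [orderOf_mk, o1]) (by rwa [orderOf_mk]) ⟨1, Subtype.ext (by simp [← e.eq])⟩).2
        (by rwa [orderOf_mk, orderOf_mk])
      exact hbg ((show a ^ k = b from congrArg Subtype.val hk) ▸ zpow_mem ha k)
    obtain ⟨⟨⟨a, ha⟩, haz⟩, ha1⟩ := ne_bot_iff_exists_ne_one.1 (Frob.center_ne_bot_of_fpf hK
      (fun e => hu1 (mem_bot.1 (e ▸ mem_sup_right (mem_zpowers u)))) (fun a _ => nt a) hf)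
    by_cases hag : a ∈ c g
    · exact key a hag (fun e => ha1 (by ext; exact e)) u (mem_sup_right (mem_zpowers u)) huW
        (congrArg Subtype.val (mem_center_iff.1 haz ⟨u, mem_sup_right (mem_zpowers u)⟩)).symm
    · exact key g (h.mem g) hg1 a ha hag (congrArg Subtype.val (mem_center_iff.1 haz ⟨g, mem_sup_left (h.mem g)⟩))
  left
  push Not at hi
  have ord : ∀ g, g ∉ c x → (orderOf g).Prime ∧ orderOf g ∣ Nat.card (c x) ∧ orderOf (g : G ⧸ c x) = orderOf g :=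
    fun g hg => by
      obtain ⟨p, hp, h1, h2⟩ := Nat.Prime.not_coprime_iff_dvd.1 (hi g hg)
      haveI := Fact.mk hp
      have h3 := h.pow_of_dvd hx hg hp h1 h2 (h.mem g)
      rw [orderOf_eq_prime h3 fun e => hg (e ▸ one_mem _)]
      exact ⟨hp, h2, orderOf_eq_prime (by rw [← QuotientGroup.mk_pow, h3, QuotientGroup.mk_one])
        ((QuotientGroup.eq_one_iff g).not.2 hg)⟩
  have key : ∀ (q : ℕ) [Fact q.Prime] (T' : Subgroup (G ⧸ c x)), IsPGroup q T' → T' ≠ ⊥ → ∀ y : G, y ∉ c x →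
      orderOf y ≠ q → (y : G ⧸ c x) ∉ normalizer (T' : Set (G ⧸ c x)) := fun q _ T' hT h0 y hy hq hyT => by
    obtain ⟨T, h1, h2, k, hk, h3⟩ := exists_lift_norm hT h0 hyT
    have hky : k * y ∉ c x := fun e => hy ((mul_mem_cancel_left hk).1 e)
    obtain ⟨o1, o2, o3⟩ := ord _ hky
    refine h2 (h.le_of_norm hx hN hky o1 rfl o2 (fun e => hq ?_) h3)
    obtain ⟨n, hn⟩ := h1.exists_card_eq
    rw [← (ord y hy).2.2, ← (Nat.prime_dvd_prime_iff_eq o1 (Fact.out : q.Prime)).1 (o1.dvd_of_dvd_pow (hn ▸ e)), ← o3,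
      QuotientGroup.mk_mul, (QuotientGroup.eq_one_iff k).2 hk, one_mul]
  refine ⟨_, hp, fun e => h.ne hx (top_le_iff.1 (e ▸ (closure_le _).2 fun g hg => by_contra fun hgx => ?_))⟩
  haveI := Fact.mk hp
  haveI := Fact.mk (ord g hgx).1
  have hne : orderOf y ≠ orderOf g := fun e => hg (e ▸ pow_orderOf_eq_one g)
  obtain ⟨P⟩ : Nonempty (Sylow (orderOf y) (G ⧸ c x)) := inferInstance
  by_cases hc : HasNormalPComplement (orderOf y) (G ⧸ c x)
  · obtain ⟨P, N, hN, hc⟩ := hc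
    have hco : (orderOf y).Coprime (Nat.card N) :=
      (Nat.Prime.coprime_iff_not_dvd hp).2 (hc.index_eq_card ▸ P.not_dvd_index)
    obtain ⟨T, h1, h2, h3, h4⟩ := Coprime.exists_invariant_sylow' (orderOf g) (K := N) (A := zpowers (y : G ⧸ c x))
      (by rw [normalizer_eq_top]; exact le_top) (by rwa [Nat.card_zpowers, (ord y hy).2.2])
      (Or.inl (Coprime.isSolvable_zpowers _))
    refine key _ T h2 (fun e => h3 ?_) y hy hne (h4 (mem_zpowers _))
    obtain ⟨n, hn⟩ := P.isPGroup'.exists_card_eq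
    rw [e, relIndex_bot_left]
    refine (((Nat.coprime_primes Fact.out hp).2 hne.symm).pow_right n).dvd_of_dvd_mul_right ?_
    rw [← hn, hc.card_mul, ← (ord g hgx).2.2]
    exact orderOf_dvd_natCard _
  · obtain ⟨Q, h1, h2, q, hq, hqy, -, a, ha, ⟨k, hk⟩, hac⟩ := Transfer.exists_of_not_hasNormalPComplement P hc
    obtain ⟨a, rfl⟩ := QuotientGroup.mk_surjective a
    have hax : a ∉ c x := fun e => hac ((QuotientGroup.eq_one_iff a).2 e ▸ one_mem _)
    refine key _ Q (P.isPGroup'.to_le h1) h2 a hax (fun e => hqy ?_) ha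
    rw [← e]
    exact ((Nat.prime_dvd_prime_iff_eq (ord a hax).1 hq).1 ((ord a hax).1.dvd_of_dvd_pow
      ((ord a hax).2.2 ▸ orderOf_dvd_of_pow_eq_one hk))).symm

end CfsgLib.CIT.App
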