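import Mathlib
import Cfsg.Agent.Lib.CIT.Simple
import Cfsg.Agent.Lib.QDFus.QDGroup
import Cfsg.Agent.Lib.Coprime.Generation
import Cfsg.Agent.Lib.CIT.AppEPPO

/-!
Suzuki's theorem on non-solvable groups in which the centraliser of every involution is a `2`-group.
-/

set_option autoImplicit false

namespace CfsgLib.CIT

open Cfsg Subgroup CfsgLib.LAE CfsgLib.StrEmb CfsgLib.TwoGrp CfsgLib.DihSyl

universe u

variable {G : Type*} [Group G] [Finite G]

theorem isSolvable_of_two {N : Subgroup G} [N.Normal] (hN : Group.IsSolvable N)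
    (h : ∀ g : G, ∃ n ∈ N, Two (n⁻¹ * g)) : Group.IsSolvable G := by
  have : Fact (Nat.Prime 2) := ⟨Nat.prime_two⟩
  refine App.isSolvable_of_normal_of_quotient N hN (Coprime.isSolvable_of_isPGroup (p := 2) ?_)
  intro x
  obtain ⟨g, rfl⟩ := QuotientGroup.mk_surjective x
  obtain ⟨n, hn, k, hk⟩ := h g
  refine ⟨k, ?_⟩
  rw [show (g : G ⧸ N) = (n⁻¹ * g : G) from (QuotientGroup.eq.2 (by
    simpa [mul_assoc] using Normal.conj_mem' inferInstance _ (N.inv_mem hn) g)), ← QuotientGroup.mk_pow, hk,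
    QuotientGroup.mk_one]

theorem oddCore_eq_bot (hG : CITOn (⊤ : Subgroup G)) (hns : ¬ Group.IsSolvable G) :
    pPrimeCore 2 G = ⊥ := by
  by_contra h1
  obtain ⟨⟨o, ho⟩, o1⟩ := ne_bot_iff_exists_ne_one.1 h1
  have hodd := Nat.coprime_two_right.1 (Core.coprime_card_pPrimeCore 2 G)
  generalize pPrimeCore 2 G = O, (inferInstance : (pPrimeCore 2 G).Normal) = hO at *
  have hC : Odd (Nat.card (centralizer (O : Set G))) := odd_card_of_forall fun t ht h2 =>
    not_two_of_odd (odd_orderOf_of_mem hodd ho) (fun e => o1 (Subtype.ext e)) (hG t trivial o trivial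
      (ne_one_of_orderOf h2) (two_of_mul_self (mul_self_of_orderOf h2)) (ht o ho))
  have hi : ∀ t : G, t ≠ 1 → t * t = 1 → ∀ y ∈ O, t * y * t⁻¹ = y⁻¹ := fun t t1 t2 y hy =>
    hG.inverts le_top (fun y hy => eq_one_of_odd_of_mul_self (odd_orderOf_of_mem hodd hy)) trivial
      t1 t2 (le_normalizer_of_normal (mem_top t)) hy
  have hm : ∀ t u : G, t ≠ 1 → t * t = 1 → u ≠ 1 → u * u = 1 → t * u ∈ centralizer (O : Set G) :=
    fun t u t1 t2 u1 u2 y hy => by
      symm
      rw [← mul_inv_eq_iff_eq_mul, show t * u * y * (t * u)⁻¹ = t * (u * y * u⁻¹) * t⁻¹ by group,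
        hi u u1 u2 y hy, hi t t1 t2 _ (O.inv_mem hy), inv_inv]
  obtain ⟨t, ht⟩ := exists_prime_orderOf_dvd_card' 2 (App.even_card_of_not_isSolvable ft hns).two_dvd
  have t1 := ne_one_of_orderOf ht
  have t2 := mul_self_of_orderOf ht
  refine hns (isSolvable_of_two (ft _ hC) fun g => ?_)
  have u2 : g * t * g⁻¹ * (g * t * g⁻¹) = 1 := by rw [conj_mul, t2]; group
  obtain ⟨w, w2, hw, -⟩ := exists_swap_of_odd t2 u2
    (odd_orderOf_of_mem hC (hm _ _ t1 t2 (conj_ne_one t1) u2))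
  have hc : w⁻¹ * g * t = t * (w⁻¹ * g) := by
    calc w⁻¹ * g * t = w⁻¹ * (g * t * g⁻¹) * g := by group
      _ = _ := by rw [← hw]; group
  by_cases w1 : w = 1
  · exact ⟨w, w1 ▸ one_mem _, hG t trivial _ trivial t1 (two_of_mul_self t2) hc⟩
  refine ⟨w * t, hm _ _ w1 w2 t1 t2, hG t trivial _ trivial t1 (two_of_mul_self t2) ?_⟩
  rw [mul_inv_rev, mul_assoc t⁻¹, mul_assoc t⁻¹, hc]
  group

theorem simple_of_min_normal (hG : CITOn (⊤ : Subgroup G)) (hO : pCore 2 G = ⊥)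
    (hO' : pPrimeCore 2 G = ⊥) {L : Subgroup G} [L.Normal] (hL : L ≠ ⊥)
    (hmin : ∀ M : Subgroup G, M.Normal → M ≤ L → M = ⊥ ∨ M = L) :
    IsSimpleGroup L ∧ ¬ IsMulCommutative L := by
  have key : ∀ M M' : Subgroup G, M.IsSubnormal → M ≠ ⊥ → M'.IsSubnormal → M' ≠ ⊥ →
      ¬ M' ≤ centralizer (M : Set G) := fun M M' h1 h2 h3 h4 h5 => by
    obtain ⟨a, ha, hao⟩ := QDFus.exists_orderOf_two_of_oddCore_eq_bot hO' h1 h2
    exact h4 (eq_bot_iff.2 (hO ▸ Core.le_pCore_of_isSubnormal h3 (isPGroup_two_iff.2 fun g hg =>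
      hG a trivial g trivial (ne_one_of_orderOf hao) (two_of_mul_self (mul_self_of_orderOf hao))
        (h5 hg a ha).symm)))
  have hs : L.IsSubnormal := Normal.isSubnormal inferInstance
  refine ⟨?_, fun h => key L L hs hL hs hL (le_centralizer L)⟩
  obtain ⟨M, hM, hM0, hML, hMmin⟩ := Core.exists_minimal_normalized_le (A := L) (K := L)
    le_normalizer hL
  suffices h : M = L by
    subst h
    have : Nontrivial M := (nontrivial_iff_ne_bot M).2 hL
    refine ⟨fun K hK => ?_⟩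
    rcases hMmin (K.map M.subtype) (Core.le_normalizer_map_subtype_of_normal K)
      (map_subtype_le K) with e | e
    · exact Or.inl ((map_eq_bot_iff_of_injective K M.subtype_injective).1 e)
    · right
      apply map_injective M.subtype_injective
      rw [e, ← MonoidHom.range_eq_map, range_subtype]
  have hsub : ∀ M : Subgroup G, M ≤ L → L ≤ normalizer (M : Set G) → M.IsSubnormal := fun M h1 h2 =>
    IsSubnormal.step M L h1 hs (normal_subgroupOf_of_le_normalizer h2)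
  refine (hmin M (normalizer_eq_top_iff.1 (eq_top_iff.2 fun g _ => ?_)) hML).resolve_left hM0
  have hL' : conjS g L = L := mem_normalizer_iff_conjS.1 (le_normalizer_of_normal (mem_top g))
  have hLn : L ≤ normalizer (conjS g M : Set G) := by
    rw [← conjS_normalizer, ← hL']; exact conjS_mono hM
  have hLe : conjS g M ≤ L := hL' ▸ conjS_mono hML
  rcases hMmin _ (le_normalizer_inf hM hLn) inf_le_left with e | e
  · exact absurd (Core.le_centralizer_of_le_normalizer_of_disjoint (hLe.trans hM) (hML.trans hLn)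
      (by rw [inf_comm, e])) (key _ _ (hsub M hML hM) hM0 (hsub _ hLe hLn)
        (by rwa [Ne, conjS_eq_bot_iff]))
  · exact mem_normalizer_iff_conjS.2
      (eq_of_le_of_card_ge (inf_eq_left.1 e) (card_conjS g M).le).symm

theorem exists_oz_mem {S L : Subgroup G} (hS : IsSylowIn 2 S ⊤) [L.Normal] {u : G} (hu : u ∈ L)
    (u2 : orderOf u = 2) : ∃ z ∈ oz S, z ∈ L ∧ orderOf z = 2 := by
  have : Fact (Nat.Prime 2) := ⟨Nat.prime_two⟩
  obtain ⟨g, -, hg⟩ := hS.exists_conj_le (two_of_mul_self (mul_self_of_orderOf u2)).isPGroup le_top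
  obtain ⟨z, hz, z1, hc⟩ := exists_fixed (U := S ⊓ L) hS.isPGroup hS.isPGroup.to_inf_left
    (le_normalizer_inf le_normalizer le_normalizer_of_normal) fun e =>
      conj_ne_one (g := g) (ne_one_of_orderOf u2) (mem_bot.1 (e ▸ ⟨hg (conj_mem_conjS.2
        (mem_zpowers u)), Normal.conj_mem inferInstance u hu g⟩))
  obtain ⟨n, h1, h2⟩ := (two_of_mem hS.isPGroup hz.1).exists_involution z1
  exact ⟨z ^ n, ⟨S.pow_mem hz.1 n, h2, fun t ht => ((show Commute t z from hc t ht).pow_right n).eq⟩,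
    L.pow_mem hz.2 n, orderOf_eq_two h2 h1⟩

theorem exists_simple_normal (hC : IsCIT G) (hO : pCore 2 G = ⊥) (hns : ¬ Group.IsSolvable G) :
    ∃ L : Subgroup G, L.Normal ∧ Bender.Rank2 G ∧ (∃ u ∈ L, orderOf u = 2) ∧
      ∀ S : Subgroup G, IsSylowIn 2 S ⊤ → S ≤ L → IsSimpleGroup G := by
  have hG := isCIT_iff.1 hC
  have hO' := oddCore_eq_bot hG hns
  obtain ⟨L, hLn, hL, -, hmin⟩ := Core.exists_minimal_normal_le (K := (⊤ : Subgroup G)) fun e =>
    hns (have := (subsingleton_iff (G := G)).1 (subsingleton_of_top_eq_bot e); inferInstance)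
  obtain ⟨hs, hna⟩ := simple_of_min_normal hG hO hO' hL hmin
  obtain ⟨u, hu, u2⟩ := QDFus.exists_orderOf_two_of_oddCore_eq_bot hO'
    (Normal.isSubnormal hLn) hL
  refine ⟨L, hLn, ?_, ⟨u, hu, u2⟩, fun S hS hSL => ?_⟩
  · obtain ⟨x, y, x1, y1, xy, x2, y2, hc⟩ := Bender.rank2_of_simple (G := L) (by
      by_contra hc
      push Not at hc
      exact hna ⟨⟨hc⟩⟩)
    exact ⟨x, y, fun e => x1 (Subtype.ext e), fun e => y1 (Subtype.ext e),
      fun e => xy (Subtype.ext e), congrArg Subtype.val x2, congrArg Subtype.val y2,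
      congrArg Subtype.val hc⟩
  obtain ⟨z, hz, hzL, z2⟩ := exists_oz_mem hS hu u2
  obtain rfl : L = ⊤ := eq_top_iff.2 fun g _ => by
    obtain ⟨l, hl⟩ := isConj_iff.1 ((cit_simple' hna (hC.of_injective L.subtype
      L.subtype_injective)).1 ⟨z, hzL⟩ ⟨_, hLn.conj_mem z hzL g⟩ ((orderOf_mk _ _).trans z2)
      ((orderOf_mk _ _).trans ((orderOf_conj g z).trans z2)))
    have e : l * z * (l : G)⁻¹ = g * z * g⁻¹ := congrArg Subtype.val hl
    refine (L.mul_mem_cancel_left (L.inv_mem l.2)).1 (hSL (hG.mem_of_comm_oz hS hz.1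
      (ne_one_of_orderOf z2) hz.2.2 ?_))
    calc (l : G)⁻¹ * g * z = (l : G)⁻¹ * (g * z * g⁻¹) * g := by group
      _ = _ := by rw [← e]; group
  exact topEquiv.symm.isSimpleGroup

theorem simple_of_dihedral (hC : IsCIT G) (hO : pCore 2 G = ⊥) (hns : ¬ Group.IsSolvable G)
    (S : Sylow 2 G) {n : ℕ} (hn : 4 ≤ n) (e : (S : Subgroup G) ≃* DihedralGroup n) :
    IsSimpleGroup G := by
  have : Fact (Nat.Prime 2) := ⟨Nat.prime_two⟩
  have hG := isCIT_iff.1 hC
  obtain ⟨L, hL, -, ⟨u, hu, u2⟩, hs⟩ := exists_simple_normal hC hO hns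
  have key : ∀ t : G, orderOf t = 2 → t ∈ L := fun t ht => by
    by_contra htL
    have t2 := mul_self_of_orderOf ht
    obtain ⟨T, hT⟩ := (hC t ht).exists_le_sylow
    obtain ⟨r, s, h⟩ := exists_isDih ((T.equiv S).trans e)
    obtain ⟨z, hz, hzL, z2⟩ := exists_oz_mem (isSylowIn_top T) hu u2
    have hzr : z ∈ zpowers r := by
      obtain ⟨i, rfl | rfl⟩ := (h.mem z).1 hz.1
      · exact zpow_mem_zpowers r i
      obtain ⟨a, ha, a2, e | e⟩ := h.of_commute_rpows h.r_mem (hz.2.2 r h.r_mem)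
      · rw [← e, ← pow_two, ← orderOf_dvd_iff_pow_eq_one, h.ord] at a2
        have := Nat.le_of_dvd two_pos a2
        omega
      · exact absurd ((mul_mem_cancel_left ha).1 (e ▸ mem_zpowers r)) (h.rpows_notMem i)
    have hw : ∀ w ∈ L, w ≠ 1 → w * w = 1 → w * t = t * w → w = z := fun w hw w1 w2 hc => by
      obtain ⟨i, rfl | rfl⟩ := (h.mem t).1 (hT (mem_centralizer_singleton_iff.2 rfl))
      · exact absurd (h.eq_of_sq (zpow_mem_zpowers r i) hzr t2 hz.2.1 (ne_one_of_orderOf ht)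
          (ne_one_of_orderOf z2) ▸ hzL) htL
      obtain ⟨a, ha, a2, e | e⟩ := h.of_commute_rpows (hT (mem_centralizer_singleton_iff.2 hc)) hc
      · exact h.eq_of_sq (e ▸ ha) hzr w2 hz.2.1 w1 (ne_one_of_orderOf z2)
      · refine absurd ((L.mul_mem_cancel_left ?_).1 (e ▸ hw)) htL
        by_cases a1 : a = 1
        · exact a1 ▸ L.one_mem
        · exact h.eq_of_sq ha hzr a2 hz.2.1 a1 (ne_one_of_orderOf z2) ▸ hzL
    have hv : ∀ v ∈ L, v * v = 1 → v ∈ (T : Subgroup G) := fun v hv v2 => by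
      have h2 : Two (t * v) := by
        rcases Nat.even_or_odd (orderOf (t * v)) with he | ho
        · obtain ⟨k, hk⟩ := exists_pow_orderOf_two he
          exact hG _ trivial _ trivial (ne_one_of_orderOf hk)
            (two_of_mul_self (mul_self_of_orderOf hk)) ((Commute.refl _).pow_right k).eq
        · obtain ⟨w, -, rfl, -⟩ := exists_swap_of_odd t2 v2 ho
          exact absurd (by simpa [mul_assoc] using hL.conj_mem' _ hv w) htL
      by_cases h3 : t * v * (t * v) = 1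
      · refine hT (mem_centralizer_singleton_iff.2 ?_)
        rw [← inv_eq_of_sq h3, mul_inv_rev, inv_eq_of_sq t2, inv_eq_of_sq v2]
      obtain ⟨k, h4, h5⟩ := (h2.pow 2).exists_involution (by rwa [pow_two])
      rw [← pow_mul] at h4 h5
      have h6 : ∀ a, a * (t * v) * a⁻¹ = (t * v)⁻¹ → a * (t * v) ^ (2 * k) = (t * v) ^ (2 * k) * a :=
        fun a ha => by rw [← mul_inv_eq_iff_eq_mul, conj_pow_of_inverts ha, inv_eq_of_sq h5]
      have h7 := hw _ (by
        rw [pow_mul, pow_two]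
        refine L.pow_mem ?_ k
        have := L.mul_mem (hL.conj_mem v hv t) hv
        rwa [inv_eq_of_sq t2, mul_assoc _ t v] at this) h4 h5 (h6 t (inverts_mul_left t2 v2)).symm
      exact hG.mem_of_comm_oz (isSylowIn_top T) hz.1 (ne_one_of_orderOf z2) hz.2.2
        (h7 ▸ h6 v (inverts_mul_right t2 v2))
    refine ne_one_of_orderOf u2 (mem_bot.1 (hO ▸ Core.le_pCore
      (T.isPGroup'.to_le (normalCore_le (T : Subgroup G))) fun g => hv _ (hL.conj_mem u hu g) ?_))
    rw [conj_mul, mul_self_of_orderOf u2]; group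
  obtain ⟨r, s, h⟩ := exists_isDih e
  refine hs S (isSylowIn_top S) fun g hg => ?_
  obtain ⟨i, rfl | rfl⟩ := (h.mem g).1 hg
  · have := L.mul_mem (key _ (h.orderOf_rpows i)) (key _ (h.orderOf_rpows 0))
    rwa [h.rpows_mul_rpows, sub_zero] at this
  · exact key _ (h.orderOf_rpows i)

theorem not_l2prime_of_index_two (hG : CITOn (⊤ : Subgroup G)) {K : Subgroup G} [K.Normal]
    (hK : K.index = 2) (hinv : ∀ t : G, t * t = 1 → t ∈ K) : ¬ IsoL2Prime K := fun h => by
  have : Fact (Nat.Prime 3) := ⟨Nat.prime_three⟩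
  have h3 := (App.l2prime_three h).dvd_card
  obtain ⟨p, k, hp, h7, hk, hc, ho, -⟩ := App.l2prime_data h
  set a := (Nat.card K).factorization 3 with ha
  have ha1 : 1 ≤ a := (Nat.prime_three.dvd_iff_one_le_factorization Nat.card_pos.ne').1 h3
  have h1 : 3 ^ a ∣ (p - 1) * (p + 1) := (Nat.Coprime.pow_left a
    ((Nat.coprime_primes Nat.prime_three hp).2 (by omega))).dvd_of_dvd_mul_left
    (hc ▸ (Nat.ordProj_dvd _ 3).mul_left 2)
  have h2 : ∀ j, (3 ^ a).Coprime (2 ^ j) := fun j => Nat.Coprime.pow _ _ (by norm_num)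
  obtain ⟨c, rfl⟩ := hp.odd_of_ne_two (by omega)
  obtain ⟨g, hg⟩ : App.HasOrd K (3 ^ a) := (ho _).2 (Or.inr (by
    rw [show (2 * c + 1 - 1) / 2 = c by omega, show (2 * c + 1 + 1) / 2 = c + 1 by omega]
    rcases hk with e | e
    · rw [show 2 * c + 1 - 1 = 2 ^ k by omega, show 2 * c + 1 + 1 = 2 ^ 1 * (c + 1) by omega] at h1
      exact Or.inr ((h2 1).dvd_of_dvd_mul_left ((h2 k).dvd_of_dvd_mul_left h1))
    · rw [e, show 2 * c + 1 - 1 = 2 ^ 1 * c by omega] at h1
      exact Or.inl ((h2 1).dvd_of_dvd_mul_left ((h2 k).dvd_of_dvd_mul_right h1))))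
  have h4 := (Sylow.ofCard (zpowers g) (by rw [Nat.card_zpowers, hg])).normalizer_sup_eq_top
  rw [Sylow.coe_ofCard, MonoidHom.map_zpowers] at h4
  obtain ⟨y, hy, hyK⟩ := SetLike.not_le_iff_exists.1 fun e => by
    rw [sup_eq_right.2 e] at h4
    simp [h4] at hK
  have hx : orderOf ((g : G) ^ 3 ^ (a - 1)) = 3 := by
    rw [orderOf_pow_of_dvd (by positivity) (by rw [orderOf_coe, hg]; exact pow_dvd_pow 3 (by omega)),
      orderOf_coe, hg, Nat.pow_div (by omega) (by omega), show a - (a - 1) = 1 by omega, pow_one]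
  obtain ⟨i, hi⟩ := conj_mem_of_mem_normalizer hy (mem_zpowers _)
  replace hi : y * (g : G) ^ 3 ^ (a - 1) * y⁻¹ = ((g : G) ^ 3 ^ (a - 1)) ^ i := by
    rw [← conj_pow, ← zpow_natCast, ← zpow_natCast, ← zpow_mul, mul_comm, zpow_mul]
    exact congrArg (· ^ _) hi.symm
  generalize (g : G) ^ 3 ^ (a - 1) = x at hx hi
  have x1 : x ≠ 1 := by rintro rfl; simp at hx
  refine not_two_of_odd (by rw [hx]; decide) x1 (hG (y * y) trivial x trivial
    (fun e => hyK (hinv y e)) (by simpa [pow_two] using (hG.two_of_not_mem hK hyK rfl).pow 2) ?_)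
  symm
  rw [← mul_inv_eq_iff_eq_mul, show y * y * x * (y * y)⁻¹ = y * (y * x * y⁻¹) * y⁻¹ by group, hi,
    ← conj_zpow, hi, ← zpow_mul]
  have h5 : ¬ (3 : ℤ) ∣ i := fun e => conj_ne_one (g := y) x1 (by
    rw [hi, ← orderOf_dvd_iff_zpow_eq_one, hx]; exact e)
  conv_rhs => rw [← zpow_one x]
  rw [zpow_eq_zpow_iff_modEq, hx]
  obtain ⟨j, rfl | rfl⟩ : ∃ j, i = 3 * j + 1 ∨ i = 3 * j + 2 := ⟨i / 3, by omega⟩
  exacts [(Int.modEq_iff_dvd.2 ⟨-(3 * j * j + 2 * j), by push_cast; ring⟩),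
    (Int.modEq_iff_dvd.2 ⟨-(3 * j * j + 4 * j + 1), by push_cast; ring⟩)]

theorem m10_of_qd (hC : IsCIT G) (hO : pCore 2 G = ⊥) (hns : ¬ Group.IsSolvable G)
    (S : Sylow 2 G) (hS : IsQuasiDihedral (S : Subgroup G)) : IsM10Type G := by
  have : Fact (Nat.Prime 2) := ⟨Nat.prime_two⟩
  have hG := isCIT_iff.1 hC
  obtain ⟨k, x, y, h⟩ := exists_isQD hS
  have hw := not_isConj_of_qd hG h
  have hzy : IsConj (x ^ (4 * k : ℤ)) y := by
    by_contra hzy
    obtain ⟨P, N, hN, hc⟩ := h.hasNormalPComplement hzy hw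
    obtain rfl : N = ⊥ := eq_bot_iff.2 (oddCore_eq_bot hG hns ▸ Core.le_pPrimeCore
      ((Nat.Prime.coprime_iff_not_dvd Nat.prime_two).2 (hc.index_eq_card ▸ P.not_dvd_index)).symm)
    exact hns (Coprime.isSolvable_of_isPGroup (p := 2) ((isComplement'_bot_left.1 hc ▸ P.isPGroup' :
      IsPGroup 2 (⊤ : Subgroup G)).of_equiv topEquiv))
  obtain ⟨K, hKn, hK, hD, -⟩ := h.exists_dihedral hzy hw
  obtain ⟨P⟩ : Nonempty (Sylow 2 K) := inferInstance
  obtain ⟨e⟩ := hD P
  have hk := h.kpos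
  have hCK := hC.of_injective K.subtype K.subtype_injective
  have := simple_of_dihedral hCK ((map_eq_bot_iff_of_injective _ K.subtype_injective).1
    (eq_bot_iff.2 (hO ▸ Core.map_pCore_le_of_normal K))) (fun hs => hns (isSolvable_of_two hs
      fun g => by
        by_cases hg : g ∈ K
        · exact ⟨g, hg, by simpa using two_one⟩
        · exact ⟨1, K.one_mem, by simpa using hG.two_of_not_mem hK hg rfl⟩)) P (by omega) e
  have hinv : ∀ t : G, orderOf t = 2 → t ∈ K := fun t ht => by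
    obtain ⟨g, rfl⟩ := isConj_iff.1 ((h.isConj_of_orderOf_two ht).elim id hzy.trans)
    exact hKn.conj_mem _ (h.w_mul_w ▸ mul_self_mem_of_index_two hK _) g
  refine ⟨K, hKn, hK, (l2_of_dihedral hCK P (by omega) e).resolve_right
    (not_l2prime_of_index_two hG hK fun t ht => ?_), hinv, _, h.orderOf_xpow (mul_comm k 8)⟩
  by_cases t1 : t = 1
  · exact t1 ▸ K.one_mem
  · exact hinv t (orderOf_eq_two ht t1)

theorem simple_or_m10 (hC : IsCIT G) (hO : pCore 2 G = ⊥) (hns : ¬ Group.IsSolvable G) :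
    IsSimpleGroup G ∨ IsM10Type G := by
  have : Fact (Nat.Prime 2) := ⟨Nat.prime_two⟩
  have hG := isCIT_iff.1 hC
  obtain ⟨S⟩ : Nonempty (Sylow 2 G) := inferInstance
  obtain ⟨L, hL, h2, ⟨u, hu, u2⟩, hs⟩ := exists_simple_normal hC hO hns
  have hS := isSylowIn_top S
  rcases cases' hG hO S (S.ne_bot_of_dvd_card (App.even_card_of_not_isSolvable ft hns).two_dvd) with
    ⟨M, h⟩ | ⟨V₁, V₂, q, hq, h⟩ | h
  · exact Or.inl (hs S hS (h.le_of_normal h2 hu u2))
  · have key : ∀ t : G, t * t = 1 → t ∈ L := fun t t2 => by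
      by_cases t1 : t = 1
      · exact t1 ▸ L.one_mem
      obtain ⟨g, rfl⟩ := isConj_iff.1 ((h.plane hG hS).isConj hq (ne_one_of_orderOf u2)
        (mul_self_of_orderOf u2) t1 t2)
      exact hL.conj_mem u hu g
    exact Or.inl (hs S hS (h.sup_eq ▸ sup_le (fun v hv => key v (h.p₁.sq v hv))
      fun v hv => key v (h.p₂.sq v hv)))
  · rcases h.shape with ⟨n, hn, ⟨e⟩⟩ | e
    · exact Or.inl (simple_of_dihedral hC hO hns S hn e)
    · exact Or.inr (m10_of_qd hC hO hns S e)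

section Action

variable {V : Type*} [CommGroup V] (φ : G →* MulAut V)
  (hφ : ∀ k : G, k ^ 3 = 1 → k ≠ 1 → ∀ v, v * φ k v * φ k (φ k v) = 1)
include hφ

theorem Par.fix_all {H U T : Subgroup G} (h : Par H U T 2) (hc : cv H U = U) {a b : G} (ha : a ∈ U)
    (a1 : a ≠ 1) (hb : b ∈ U) {v : V} (hv : φ a v = v) : φ b v = v := by
  obtain ⟨g, hg, hne⟩ := h.exists_conj_ne
  obtain ⟨c, hc1, hc2⟩ := h.exists_a
  obtain ⟨c', hc1', hc2'⟩ := (h.conj_mem hg).exists_a
  have hk2 := h.not_two (h.conj_mem hg) hne hc1 hc2 hc1' hc2'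
  have hk := H.mul_mem (h.ale hc1) ((h.conj_mem hg).ale hc1')
  generalize c * c' = k at hk hk2
  have fpf : ∀ u ∈ U, k * u = u * k → u = 1 := fun u hu e => by
    by_contra u1
    exact hk2 (h.two_of_comm hk hu u1 e)
  have h4 := fun u (hu : u ∈ U) => four_group h.card h.sq (h.norm hk) fpf hu
  have h3 : ∀ u ∈ U, k * (k * u * k⁻¹) * k⁻¹ = k⁻¹ * u * k⁻¹⁻¹ := fun u hu => by
    by_cases u1 : u = 1
    · simp [u1]
    have e := (h4 _ (h.cj hk hu) (conj_ne_one u1)).2
    rw [(h4 u hu u1).2, ← mul_left_cancel_iff (a := k * u * k⁻¹), ← e,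
      h.comm hu (h.cj hk hu), ← mul_assoc (k * u * k⁻¹), h.sq _ (h.cj hk hu)]
    group
  have k3 : k ^ 3 = 1 := fpf _ (hc ▸ mem_cv.2 ⟨H.pow_mem hk 3, fun u hu => by
    rw [pow_three']
    calc k * k * k * u = k * (k * (k * u * k⁻¹) * k⁻¹) * k * k := by group
      _ = _ := by rw [h3 u hu]; group⟩) (by group)
  obtain ⟨h5, h6⟩ := h4 a ha a1
  have hb' := h.cj hk ha
  have e1 : a * k * a = k * (k * a * k⁻¹) := by
    calc a * k * a = k * (k⁻¹ * a * k⁻¹⁻¹) * a := by group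
      _ = _ := by rw [h6, h.comm ha hb', mul_assoc, mul_assoc, h.sq a ha, mul_one]
  have e2 : (k * a) ^ 3 = 1 := by
    calc (k * a) ^ 3 = k * (a * k * a) * k * a := by simp only [pow_succ, pow_zero, one_mul, mul_assoc]
      _ = k ^ 3 * (a * a) := by rw [e1]; simp only [pow_succ, pow_zero, one_mul]; group
      _ = 1 := by rw [k3, h.sq a ha, mul_one]
  have e3 := hφ k k3 (by rintro rfl; exact hk2 two_one) v
  have e4 := hφ _ e2 (fun e => hk2 (two_of_mul_self (by
    rw [eq_inv_of_mul_eq_one_left e, h.inv ha, h.sq a ha]))) v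
  have e5 : φ (k * a * k⁻¹) v = v := by
    have e6 : φ (k * a) (φ (k * a) v) = φ k (φ k (φ (k * a * k⁻¹) v)) := by
      rw [← MulAut.mul_apply, ← MulAut.mul_apply, ← MulAut.mul_apply, ← map_mul, ← map_mul,
        ← map_mul, mul_assoc k k, ← e1]
      simp only [mul_assoc]
    rw [e6, map_mul, MulAut.mul_apply, hv, ← e3] at e4
    simpa using e4
  rcases h5 b hb with rfl | rfl | rfl | rfl
  · simp
  · exact hv
  · exact e5
  · rw [map_mul, MulAut.mul_apply, e5, hv]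

theorem Flag.not_injective {H₁ V₁ H₂ V₂ T : Subgroup G} (h : Flag H₁ V₁ H₂ V₂ T 2)
    (hV : ∀ v : V, v * v = 1) : ¬ Function.Injective φ := fun hi => by
  obtain ⟨a, ha, ha'⟩ := h.p₁.exists_v
  obtain ⟨b, hb, hb'⟩ := h.exists_not_mem
  obtain ⟨z, hz, z1⟩ := h.p₁.exists_w
  have key : ∀ {H₁ V₁ H₂ V₂ : Subgroup G}, Flag H₁ V₁ H₂ V₂ T 2 → ∀ a ∈ V₁, a ≠ 1 → ∀ b ∈ V₂, ∀ v,
      φ b (φ a v) = v * φ a v * φ b v := fun h a ha a1 b hb v => by
    have := h.p₂.fix_all φ hφ h.c₂ (h.p₂.wle hz) z1 hb (h.p₁.fix_all φ hφ h.c₁ ha a1 (h.p₁.wle hz)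
      (v := v * φ a v) (by
        rw [map_mul, ← MulAut.mul_apply, ← map_mul, h.p₁.sq a ha, map_one, mul_comm]; rfl))
    rw [← this, map_mul, mul_comm (φ b v), mul_assoc, hV, mul_one]
  refine hb' (h.mem_of_comm ha ha' (h.p₂.v_le hb) (hi (MulEquiv.ext fun v => ?_)))
  rw [map_mul, map_mul, MulAut.mul_apply, MulAut.mul_apply,
    key h a ha (fun e => ha' (e ▸ one_mem _)) b hb,
    key h.symm b hb (fun e => hb' (e ▸ one_mem _)) a ha, mul_right_comm]

end Action

theorem not_flag_quotient (hC : IsCIT G) (hO : pCore 2 G ≠ ⊥)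
    {H₁ V₁ H₂ V₂ T : Subgroup (G ⧸ pCore 2 G)} : ¬ Flag H₁ V₁ H₂ V₂ T 2 := fun h => by
  have hG := isCIT_iff.1 hC
  have hcv := hG.cv_oz (pCoreOf_top (p := 2) (G := G) ▸ hO)
  rw [pCoreOf_top] at hcv
  have hn : (oz (pCore 2 G)).Normal := normalizer_eq_top_iff.1
    (eq_top_iff.2 (le_normalizer_of_normal.trans (normalizer_le_normalizer_oz _)))
  have hsq : ∀ v ∈ oz (pCore 2 G), v * v = 1 := fun v hv => hv.2.1
  generalize oz (pCore 2 G) = U at hcv hn hsq
  have hker : ∀ g, g ∈ pCore 2 G ↔ (MulAut.conjNormal g : MulAut U) = 1 := fun g => by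
    rw [← hcv, mem_cv]
    exact ⟨fun e => MulEquiv.ext fun v => Subtype.ext (mul_inv_eq_iff_eq_mul.2 (e.2 v v.2)),
      fun e => ⟨trivial, fun v hv => mul_inv_eq_iff_eq_mul.1
        (congrArg Subtype.val (MulEquiv.congr_fun e ⟨v, hv⟩))⟩⟩
  let : CommGroup U := { (inferInstance : Group U) with
    mul_comm := fun a b => Subtype.ext (comm_of_sq hsq a.2 b.2) }
  refine h.not_injective (V := U) (QuotientGroup.lift _ MulAut.conjNormal fun g hg => (hker g).1 hg)
    (fun k k3 k1 v => ?_) (fun v => Subtype.ext (hsq v v.2))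
    ((injective_iff_map_eq_one _).2 fun k hk => ?_)
  · obtain ⟨k, rfl⟩ := QuotientGroup.mk_surjective k
    have h3 : k ^ 3 ∈ pCore 2 G := (QuotientGroup.eq_one_iff _).1 k3
    by_contra h1
    refine k1 ((QuotientGroup.eq_one_iff _).2 (Two.mem_of_cube (hG _ trivial k trivial
      (fun e => h1 (Subtype.ext e)) (two_of_mul_self (hsq _ (Subtype.prop _))) ?_) h3))
    have e : (MulAut.conjNormal k : MulAut U) (MulAut.conjNormal k (MulAut.conjNormal k v)) = v := by
      have := MulEquiv.congr_fun ((hker _).1 h3) v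
      rwa [map_pow] at this
    refine mul_inv_eq_iff_eq_mul.1 (congrArg Subtype.val (show (MulAut.conjNormal k : MulAut U)
      (v * MulAut.conjNormal k v * MulAut.conjNormal k (MulAut.conjNormal k v)) =
      v * MulAut.conjNormal k v * MulAut.conjNormal k (MulAut.conjNormal k v) from ?_))
    rw [map_mul, map_mul, e, ← mul_rotate]
  · obtain ⟨k, rfl⟩ := QuotientGroup.mk_surjective k
    exact (QuotientGroup.eq_one_iff _).2 ((hker k).2 hk)

theorem hasOrd_nine (hC : IsCIT G) (hO : pCore 2 G ≠ ⊥) (h9 : 9 ∣ Nat.card (G ⧸ pCore 2 G)) :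
    App.HasOrd (G ⧸ pCore 2 G) 9 := by
  have : Fact (Nat.Prime 3) := ⟨Nat.prime_three⟩
  have : Fact (Nat.Prime 2) := ⟨Nat.prime_two⟩
  obtain ⟨A, hA⟩ := Sylow.exists_subgroup_card_pow_prime (G := G) 3 (n := 2)
    (h9.trans (card_quotient_dvd_card _))
  have := IsPGroup.isMulCommutative_of_card_eq_prime_sq hA
  refine App.HasOrd.quotient_of_odd _ (Core.isPGroup_pCore 2 G)
    (App.hasOrd_of_isCyclic (A := A) ?_ hA.symm.dvd) (by decide)
  by_contra hc
  obtain ⟨n, hn⟩ := (Core.isPGroup_pCore 2 G).exists_card_eq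
  obtain ⟨a, ha, a1, h⟩ := Coprime.exists_centralizer_ne_bot hc le_normalizer_of_normal
    (by rw [hA, hn]; exact Nat.Coprime.pow _ _ (by norm_num)) hO
  exact h (App.fpf_of_cit hC (Core.isPGroup_pCore 2 G)
    (odd_orderOf_of_mem (by rw [hA]; decide) ha) a1)

/-- Suzuki's theorem for non-solvable CIT-groups. -/
theorem cit_general : CITGeneral.{u} := fun G _ _ hns hC => by
  have : Fact (Nat.Prime 2) := ⟨Nat.prime_two⟩
  by_cases hO : pCore 2 G = ⊥
  · exact Or.inl ⟨hO, (simple_or_m10 hC hO hns).imp_left fun h =>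
      ⟨h, @cit_simple G _ _ h (fun hc => hns Core.isSolvable_of_isMulCommutative) hC⟩⟩
  have hns' : ¬ Group.IsSolvable (G ⧸ pCore 2 G) := fun h => hns
    (App.isSolvable_of_normal_of_quotient _
      (Coprime.isSolvable_of_isPGroup (Core.isPGroup_pCore 2 G)) h)
  have hC' := App.IsCIT.of_surjective' hC _ (QuotientGroup.mk'_surjective (pCore 2 G))
  have h9 := hasOrd_nine hC hO
  rcases simple_or_m10 hC' (Core.pCore_quotient_pCore 2 G) hns' with h | h
  · refine Or.inr ⟨hO, h, ?_⟩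
    rcases (cit_simple' (fun hc => hns' Core.isSolvable_of_isMulCommutative) hC').2 with
      e | e | e | ⟨-, _, _, _, _, _, e⟩
    · exact Or.inl e
    · exact Or.inr e
    · obtain ⟨h1, h2⟩ := App.l34_data e
      exact absurd ((h2 9).1 (h9 (by rw [h1]; decide))) (by decide)
    · exact absurd e (not_flag_quotient hC hO)
  · obtain ⟨g, hg⟩ := h9 (by rw [(App.m10_data h).1]; decide)
    obtain ⟨N, -, h2, hN, -⟩ := h
    refine absurd (((App.l29_data hN).2 9).1 ⟨⟨_, sq_mem_of_index_two h2 g⟩, ?_⟩) (by decide)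
    rw [orderOf_mk, orderOf_pow, hg]
    rfl

end CfsgLib.CIT
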